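import Mathlib
import Cfsg.Prelude.Def_GeometricClasses

/-!
Normalisers of field subalgebras of prime degree equal to the dimension, and cyclic matrices
with `X ^ n - 1` as minimal polynomial.
Owner: helper86.
-/

namespace Cfsg.Agent.Lib.SingerNorm

open Matrix Polynomial Module

set_option maxHeartbeats 800000

section CyclicVec

variable {F V : Type*} [Field F] [AddCommGroup V] [Module F V] [FiniteDimensional F V]

theorem exists_vec_annihilator_aux (f : Module.End F V) (g : F[X]) (hg : g ≠ 0)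
    (hdvd : g ∣ minpoly F f) : ∃ v : V, ∀ h : F[X], aeval f h v = 0 ↔ g ∣ h := by
  classical
  induction g using UniqueFactorizationMonoid.induction_on_coprime with
  | h0 => exact absurd rfl hg
  | h1 hu =>
    exact ⟨0, fun h => ⟨fun _ => hu.dvd, fun _ => map_zero _⟩⟩
  | hpr i hp =>
    rename_i π
    rcases Nat.eq_zero_or_pos i with rfl | hi
    · exact ⟨0, fun h => ⟨fun _ => by simp, fun _ => map_zero _⟩⟩
    obtain ⟨w, hw⟩ := hdvd
    obtain ⟨j, rfl⟩ : ∃ j, i = j + 1 := ⟨i - 1, by omega⟩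
    have hne : aeval f (π ^ j * w) ≠ 0 := by
      intro h0
      have h1 := minpoly.dvd F f h0
      rw [hw, pow_succ, mul_assoc] at h1
      have hw0 : w ≠ 0 := by
        rintro rfl
        exact minpoly.ne_zero (Algebra.IsIntegral.isIntegral f) (by rw [hw, mul_zero])
      obtain ⟨c, hc⟩ := h1
      have hu : IsUnit π := by
        refine IsUnit.of_mul_eq_one c ?_
        have h2 : π ^ j * w * 1 = π ^ j * w * (π * c) := by rw [mul_one]; linear_combination hc
        exact (mul_left_cancel₀ (mul_ne_zero (pow_ne_zero j hp.ne_zero) hw0) h2).symm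
      exact hp.not_isUnit hu
    obtain ⟨u, hu⟩ : ∃ u, aeval f (π ^ j * w) u ≠ 0 := by
      by_contra hcon
      push Not at hcon
      exact hne (LinearMap.ext hcon)
    refine ⟨aeval f w u, fun h => ⟨fun h0 => ?_, ?_⟩⟩
    · by_contra hnd
      have hkill : aeval f (π ^ (j + 1)) (aeval f w u) = 0 := by
        rw [← Module.End.mul_apply, ← map_mul, ← hw, minpoly.aeval, LinearMap.zero_apply]
      have hg' : aeval f (EuclideanDomain.gcd h (π ^ (j + 1))) (aeval f w u) = 0 := by
        rw [EuclideanDomain.gcd_eq_gcd_ab h (π ^ (j + 1))]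
        rw [map_add, LinearMap.add_apply, mul_comm h, mul_comm (π ^ (j + 1)), map_mul, map_mul,
          Module.End.mul_apply, Module.End.mul_apply, h0, hkill, map_zero, map_zero, add_zero]
      obtain ⟨l, hl, hass⟩ := (dvd_prime_pow hp (j + 1)).mp
        (EuclideanDomain.gcd_dvd_right h (π ^ (j + 1)))
      have hlj : l ≤ j := by
        by_contra hlt
        have : l = j + 1 := by omega
        exact hnd (this ▸ hass.symm.dvd.trans (EuclideanDomain.gcd_dvd_left h _))
      obtain ⟨d, hd⟩ : EuclideanDomain.gcd h (π ^ (j + 1)) ∣ π ^ j :=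
        hass.dvd.trans (pow_dvd_pow π hlj)
      apply hu
      rw [map_mul, Module.End.mul_apply, hd, mul_comm, map_mul, Module.End.mul_apply, hg', map_zero]
    · rintro ⟨c, rfl⟩
      rw [mul_comm, map_mul, Module.End.mul_apply]
      have hkill : aeval f (π ^ (j + 1)) (aeval f w u) = 0 := by
        rw [← Module.End.mul_apply, ← map_mul, ← hw, minpoly.aeval, LinearMap.zero_apply]
      rw [hkill, map_zero]
  | hcp hab ha hb =>
    rename_i a b
    obtain ⟨va, hva⟩ := ha (left_ne_zero_of_mul hg) ((dvd_mul_right a b).trans hdvd)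
    obtain ⟨vb, hvb⟩ := hb (right_ne_zero_of_mul hg) ((dvd_mul_left b a).trans hdvd)
    refine ⟨va + vb, fun h => ⟨fun h0 => ?_, fun hd => ?_⟩⟩
    · have key : ∀ c, aeval f (c * h) va + aeval f (c * h) vb = 0 := fun c => by
        rw [map_mul, Module.End.mul_apply, Module.End.mul_apply, ← map_add, ← map_add, h0, map_zero]
      have h1 : a ∣ b * h := by
        refine (hva _).mp ?_
        have := key b
        rwa [(hvb _).mpr (dvd_mul_right b h), add_zero] at this
      have h2 : b ∣ a * h := by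
        refine (hvb _).mp ?_
        have := key a
        rwa [(hva _).mpr (dvd_mul_right a h), zero_add] at this
      have hab' : IsCoprime a b := hab.isCoprime
      exact hab'.mul_dvd (hab'.dvd_of_dvd_mul_left h1) (hab'.symm.dvd_of_dvd_mul_left h2)
    · rw [map_add, (hva h).mpr ((dvd_mul_right a b).trans hd),
        (hvb h).mpr ((dvd_mul_left b a).trans hd), add_zero]

/-- There is a vector whose annihilator is the minimal polynomial. -/
theorem exists_vec_annihilator (f : Module.End F V) :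
    ∃ v : V, ∀ h : F[X], aeval f h v = 0 ↔ minpoly F f ∣ h :=
  exists_vec_annihilator_aux f _ (minpoly.ne_zero (Algebra.IsIntegral.isIntegral f)) dvd_rfl

end CyclicVec

section Conj

variable {F : Type*} [Field F] {n : ℕ}

/-- The matrix of the cyclic shift of the coordinates. -/
def shiftMat (n : ℕ) (F : Type*) [Field F] : Matrix (Fin n) (Fin n) F :=
  (Equiv.Perm.permMatrix F (finRotate n))ᵀ

theorem shiftMat_apply (i j : Fin n) :
    shiftMat n F i j = if finRotate n j = i then 1 else 0 := by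
  rw [shiftMat, Matrix.transpose_apply, Equiv.Perm.permMatrix, PEquiv.toMatrix_apply,
    Equiv.toPEquiv_apply]
  simp only [Option.mem_some_iff]

theorem mul_shiftMat_apply (P : Matrix (Fin n) (Fin n) F) (i j : Fin n) :
    (P * shiftMat n F) i j = P i (finRotate n j) := by
  rw [Matrix.mul_apply, Finset.sum_eq_single (finRotate n j)]
  · rw [shiftMat_apply, if_pos rfl, mul_one]
  · intro b _ hb
    rw [shiftMat_apply, if_neg (Ne.symm hb), mul_zero]
  · simp

/-- A matrix with minimal polynomial `X ^ n - 1` is similar to the cyclic shift. -/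
theorem exists_mul_shiftMat {x : Matrix (Fin n) (Fin n) F} (hn : 0 < n)
    (hmin : minpoly F x = X ^ n - 1) :
    ∃ P : Matrix (Fin n) (Fin n) F, P.det ≠ 0 ∧ x * P = P * shiftMat n F := by
  classical
  set f : Module.End F (Fin n → F) := Matrix.toLinAlgEquiv' x with hfdef
  have hminf : minpoly F f = X ^ n - 1 := by
    rw [hfdef, minpoly.algEquiv_eq, hmin]
  obtain ⟨v, hv⟩ := exists_vec_annihilator f
  rw [hminf] at hv
  let P : Matrix (Fin n) (Fin n) F := Matrix.of fun i j => (f ^ (j : ℕ)) v i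
  have hdeg : (X ^ n - 1 : F[X]).natDegree = n := by
    rw [show (1 : F[X]) = C 1 by simp, natDegree_X_pow_sub_C]
  refine ⟨P, ?_, ?_⟩
  · intro h0
    obtain ⟨c, hc0, hc⟩ := Matrix.exists_mulVec_eq_zero_iff.mpr h0
    let h : F[X] := ∑ j : Fin n, C (c j) * X ^ (j : ℕ)
    have hh : aeval f h v = 0 := by
      ext i
      have hci := congrFun hc i
      simp only [Matrix.mulVec, dotProduct, P, Matrix.of_apply, Pi.zero_apply] at hci
      simp only [h, map_sum, map_mul, aeval_C, map_pow, aeval_X, LinearMap.sum_apply,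
        Finset.sum_apply, Pi.zero_apply, Module.End.mul_apply]
      refine Eq.trans (Finset.sum_congr rfl fun j _ => ?_) hci
      rw [Module.algebraMap_end_apply, Pi.smul_apply, smul_eq_mul, mul_comm]
    have hh0 : h = 0 := by
      by_contra hne
      have h1 : n ≤ h.natDegree := hdeg ▸ natDegree_le_of_dvd ((hv h).mp hh) hne
      have h2 : h.natDegree ≤ n - 1 := by
        refine natDegree_sum_le_of_forall_le _ _ fun j _ => ?_
        exact (natDegree_C_mul_X_pow_le _ _).trans (by omega)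
      omega
    refine hc0 (funext fun j => ?_)
    have := congrArg (fun p => coeff p (j : ℕ)) hh0
    simpa [h, finsetSum_coeff, coeff_C_mul, coeff_X_pow, ← Fin.ext_iff] using this
  · have hfn : f ^ n = 1 := by
      have := minpoly.aeval F f
      rw [hminf] at this
      simpa [sub_eq_zero] using this
    ext i j
    rw [mul_shiftMat_apply]
    have h1 : (x * P) i j = f ((f ^ (j : ℕ)) v) i := by
      simp [hfdef, Matrix.mul_apply, Matrix.mulVec, dotProduct, P]
    rw [h1]
    show f ((f ^ (j : ℕ)) v) i = (f ^ ((finRotate n j : Fin n) : ℕ)) v i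
    rw [← Module.End.mul_apply, ← pow_succ']
    obtain ⟨m, rfl⟩ : ∃ m, n = m + 1 := ⟨n - 1, by omega⟩
    rcases eq_or_ne j (Fin.last m) with rfl | hj
    · rw [finRotate_last, Fin.val_last, hfn]
      simp
    · rw [coe_finRotate_of_ne_last hj]

theorem shiftMat_comm_one_add (a : F) :
    (1 + a • Matrix.of fun _ _ : Fin n => (1 : F)) * shiftMat n F =
      shiftMat n F * (1 + a • Matrix.of fun _ _ : Fin n => (1 : F)) := by
  rw [add_mul, mul_add, one_mul, mul_one, Matrix.smul_mul, Matrix.mul_smul]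
  congr 2
  ext i j
  rw [mul_shiftMat_apply, Matrix.mul_apply, Matrix.of_apply,
    Finset.sum_eq_single ((finRotate n).symm i)]
  · rw [shiftMat_apply, if_pos (Equiv.apply_symm_apply _ _), Matrix.of_apply, one_mul]
  · intro b _ hb
    have : finRotate n b ≠ i := fun h => hb (by rw [← h, Equiv.symm_apply_apply])
    rw [shiftMat_apply, if_neg this, zero_mul]
  · simp

theorem det_one_add (a : F) :
    (1 + a • Matrix.of fun _ _ : Fin n => (1 : F)).det = 1 + n * a := by
  have : (a • Matrix.of fun _ _ : Fin n => (1 : F)) =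
      Matrix.replicateCol Unit (fun _ => a) * Matrix.replicateRow Unit (fun _ => (1 : F)) := by
    ext i j
    simp [Matrix.mul_apply]
  rw [this, Matrix.det_one_add_replicateCol_mul_replicateRow]
  simp [dotProduct, Finset.sum_const, mul_comm]

/-- Two matrices with minimal polynomial `X ^ n - 1`, `n` invertible in `F`, are conjugate
under `SL_n`. -/
theorem exists_sl_conj {x y : Matrix (Fin n) (Fin n) F} (hnF : (n : F) ≠ 0)
    (hx : minpoly F x = X ^ n - 1) (hy : minpoly F y = X ^ n - 1) :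
    ∃ M : Matrix.SpecialLinearGroup (Fin n) F, x * (M : Matrix (Fin n) (Fin n) F) =
      (M : Matrix (Fin n) (Fin n) F) * y := by
  have hn : 0 < n := Nat.pos_of_ne_zero fun h => hnF (by simp [h])
  obtain ⟨P, hP, hxP⟩ := exists_mul_shiftMat hn hx
  obtain ⟨Q, hQ, hyQ⟩ := exists_mul_shiftMat hn hy
  set a : F := (Q.det / P.det - 1) / n with ha
  set G : Matrix (Fin n) (Fin n) F := 1 + a • Matrix.of fun _ _ => (1 : F) with hG
  have huQ : IsUnit Q.det := isUnit_iff_ne_zero.mpr hQ
  have hQy : Q⁻¹ * y = shiftMat n F * Q⁻¹ := by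
    calc Q⁻¹ * y = Q⁻¹ * (y * Q) * Q⁻¹ := by
          rw [Matrix.mul_assoc, Matrix.mul_nonsing_inv_cancel_right _ _ huQ]
      _ = Q⁻¹ * (Q * shiftMat n F) * Q⁻¹ := by rw [hyQ]
      _ = shiftMat n F * Q⁻¹ := by rw [Matrix.nonsing_inv_mul_cancel_left _ _ huQ]
  refine ⟨⟨P * G * Q⁻¹, ?_⟩, ?_⟩
  · rw [Matrix.det_mul, Matrix.det_mul, hG, det_one_add, ha, Matrix.det_nonsing_inv,
      Ring.inverse_eq_inv']
    field_simp
    ring
  · show x * (P * G * Q⁻¹) = P * G * Q⁻¹ * y
    rw [Matrix.mul_assoc _ Q⁻¹ y, hQy, ← Matrix.mul_assoc, ← Matrix.mul_assoc, hxP,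
      Matrix.mul_assoc P, hG, ← shiftMat_comm_one_add]
    simp only [Matrix.mul_assoc]

end Conj

section Normalizer

variable {F : Type*} [Field F] [Fintype F] {n : ℕ} {K : Subalgebra F (Matrix (Fin n) (Fin n) F)}

theorem eq_zero_of_mulVec_eq_zero (hK : Cfsg.Geo.IsFieldSubalgebra n K)
    {k : Matrix (Fin n) (Fin n) F} (hk : k ∈ K) {v : Fin n → F} (hv : v ≠ 0) (h : k *ᵥ v = 0) :
    k = 0 := by
  by_contra hk0
  obtain ⟨y, hy, hky⟩ := hK.inv k hk hk0
  have : (y * k) *ᵥ v = 0 := by rw [← Matrix.mulVec_mulVec, h, Matrix.mulVec_zero]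
  rw [← hK.comm k hk y hy, hky, Matrix.one_mulVec] at this
  exact hv this

/-- For `v ≠ 0` the evaluation `k ↦ k v` identifies `K` with the space of column vectors. -/
noncomputable def evalEquiv (hK : Cfsg.Geo.IsFieldSubalgebra n K) (v : Fin n → F) (hv : v ≠ 0) :
    K ≃ₗ[F] (Fin n → F) :=
  LinearEquiv.ofBijective
    ({ toFun := fun k : K => (k : Matrix (Fin n) (Fin n) F) *ᵥ v
       map_add' := fun a b => by simp [Matrix.add_mulVec]
       map_smul' := fun c a => by simp [Matrix.smul_mulVec] } : K →ₗ[F] (Fin n → F))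
    (by
      have hinj : Function.Injective (fun k : K => (k : Matrix (Fin n) (Fin n) F) *ᵥ v) := by
        intro a b hab
        have h0 : ((a - b : K) : Matrix (Fin n) (Fin n) F) *ᵥ v = 0 := by
          simp only at hab
          simp [Matrix.sub_mulVec, hab]
        exact sub_eq_zero.mp (Subtype.ext (eq_zero_of_mulVec_eq_zero hK (a - b).2 hv h0))
      refine ⟨hinj, ?_⟩
      exact (LinearMap.injective_iff_surjective_of_finrank_eq_finrank
        (by rw [hK.finrank_eq, Module.finrank_fin_fun])).mp hinj)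

theorem evalEquiv_apply (hK : Cfsg.Geo.IsFieldSubalgebra n K) (v : Fin n → F) (hv : v ≠ 0) (k : K) :
    evalEquiv hK v hv k = (k : Matrix (Fin n) (Fin n) F) *ᵥ v := rfl

theorem mem_of_forall_commute (hK : Cfsg.Geo.IsFieldSubalgebra n K) (hn : 0 < n)
    {g : Matrix (Fin n) (Fin n) F} (hg : ∀ k ∈ K, g * k = k * g) : g ∈ K := by
  let v : Fin n → F := fun _ => 1
  have hv : v ≠ 0 := fun h => one_ne_zero (α := F) (congrFun h ⟨0, hn⟩)
  obtain ⟨k0, hk0⟩ := (evalEquiv hK v hv).surjective (g *ᵥ v)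
  rw [evalEquiv_apply] at hk0
  suffices g = (k0 : Matrix (Fin n) (Fin n) F) from this ▸ k0.2
  apply Matrix.ext_of_mulVec_single
  intro i
  obtain ⟨k, hk⟩ := (evalEquiv hK v hv).surjective (Pi.single i 1)
  rw [evalEquiv_apply] at hk
  rw [← hk, Matrix.mulVec_mulVec, hg _ k.2, ← Matrix.mulVec_mulVec, ← hk0, Matrix.mulVec_mulVec,
    hK.comm _ k.2 _ k0.2, ← Matrix.mulVec_mulVec]

theorem isField (hK : Cfsg.Geo.IsFieldSubalgebra n K) (hn : 0 < n) : IsField K := by
  haveI : Nonempty (Fin n) := ⟨⟨0, hn⟩⟩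
  refine ⟨⟨0, 1, zero_ne_one⟩, fun a b => Subtype.ext (hK.comm a a.2 b b.2), fun {a} ha => ?_⟩
  obtain ⟨y, hy, hay⟩ := hK.inv a a.2 (fun h => ha (Subtype.ext h))
  exact ⟨⟨y, hy⟩, Subtype.ext hay⟩

/-- In `K` only scalars satisfy a polynomial of degree less than the prime `n`. -/
theorem scalar_of_mem (hK : Cfsg.Geo.IsFieldSubalgebra n K) (hn : n.Prime)
    {g : Matrix (Fin n) (Fin n) F} (hg : g ∈ K) {h : F[X]} (h0 : h ≠ 0) (hdeg : h.natDegree < n)
    (hh : aeval g h = 0) : ∃ c : F, g = c • 1 := by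
  letI : Field K := (isField hK hn.pos).toField
  have hint : IsIntegral F (⟨g, hg⟩ : K) := Algebra.IsIntegral.isIntegral _
  have hh' : aeval (⟨g, hg⟩ : K) h = 0 := by
    apply Subtype.ext
    show K.val (aeval (⟨g, hg⟩ : K) h) = 0
    rw [← Polynomial.aeval_algHom_apply]
    exact hh
  have h1 : (minpoly F (⟨g, hg⟩ : K)).natDegree ≤ h.natDegree :=
    natDegree_le_of_dvd (minpoly.dvd F _ hh') h0
  have h2 : (minpoly F (⟨g, hg⟩ : K)).natDegree ∣ n := by
    have := minpoly.degree_dvd hint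
    rwa [hK.finrank_eq] at this
  have h3 : (minpoly F (⟨g, hg⟩ : K)).natDegree = 1 :=
    ((Nat.dvd_prime hn).mp h2).resolve_right (by omega)
  obtain ⟨c, hc⟩ := minpoly.natDegree_eq_one_iff.mp h3
  refine ⟨c, ?_⟩
  have := congrArg Subtype.val hc
  rw [← Algebra.algebraMap_eq_smul_one]
  exact this.symm

/-- Conjugation by an element of the normaliser. -/
def conjHom (g : GL (Fin n) F) (hg : g ∈ Cfsg.Geo.subalgebraNormalizer K) : K →ₐ[F] K where
  toFun k := ⟨(g : Matrix (Fin n) (Fin n) F) * k * ((g⁻¹ : GL (Fin n) F) : Matrix (Fin n) (Fin n) F),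
    (hg k).mp k.2⟩
  map_one' := Subtype.ext (by simp [← Units.val_mul])
  map_mul' a b := Subtype.ext (by simp [Matrix.mul_assoc])
  map_zero' := Subtype.ext (by simp)
  map_add' a b := Subtype.ext (by simp [Matrix.mul_add, Matrix.add_mul])
  commutes' c := Subtype.ext (by
    simp [Algebra.algebraMap_eq_smul_one, ← Units.val_mul])

theorem conjHom_mul (g : GL (Fin n) F) (hg : g ∈ Cfsg.Geo.subalgebraNormalizer K) (k : K) :
    (g : Matrix (Fin n) (Fin n) F) * k = (conjHom g hg k : Matrix (Fin n) (Fin n) F) * g := by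
  simp [conjHom, Matrix.mul_assoc]

/-- An element of the normaliser killed by a polynomial of degree less than `n` is scalar. -/
theorem scalar_of_normalizer (hK : Cfsg.Geo.IsFieldSubalgebra n K) (hn : n.Prime)
    (g : GL (Fin n) F) (hg : g ∈ Cfsg.Geo.subalgebraNormalizer K) {h : F[X]} (h0 : h ≠ 0)
    (hdeg : h.natDegree < n) (hh : aeval (g : Matrix (Fin n) (Fin n) F) h = 0) :
    ∃ c : F, (g : Matrix (Fin n) (Fin n) F) = c • 1 := by
  letI : Field K := (isField hK hn.pos).toField
  haveI : Finite K := Module.finite_of_finite F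
  set ψ : K ≃ₐ[F] K := AlgEquiv.ofBijective (conjHom g hg)
    ⟨(conjHom g hg).toRingHom.injective,
      Finite.injective_iff_surjective.mp (conjHom g hg).toRingHom.injective⟩ with hψdef
  by_cases hψ : ψ = 1
  · refine scalar_of_mem hK hn (mem_of_forall_commute hK hn.pos fun k hk => ?_) h0 hdeg hh
    have h1 := conjHom_mul g hg ⟨k, hk⟩
    have h2 : conjHom g hg ⟨k, hk⟩ = (ψ ⟨k, hk⟩ : K) := rfl
    rw [h2, hψ] at h1
    exact h1
  exfalso
  haveI : Fact n.Prime := ⟨hn⟩
  have hord : orderOf ψ = n := by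
    have h1 : orderOf ψ ∣ Nat.card (K ≃ₐ[F] K) := orderOf_dvd_natCard ψ
    rw [IsGalois.card_aut_eq_finrank, hK.finrank_eq] at h1
    exact ((Nat.dvd_prime hn).mp h1).resolve_left (fun h => hψ (orderOf_eq_one_iff.mp h))
  have hpow : ∀ (i : ℕ) (k : K), ((g : Matrix (Fin n) (Fin n) F) ^ i) * (k : Matrix (Fin n) (Fin n) F) =
      (((ψ ^ i) k : K) : Matrix (Fin n) (Fin n) F) * (g : Matrix (Fin n) (Fin n) F) ^ i := by
    intro i
    induction i with
    | zero => intro k; simp
    | succ i ih =>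
      intro k
      have hk : (g : Matrix (Fin n) (Fin n) F) * k = (ψ k : K) * (g : Matrix (Fin n) (Fin n) F) :=
        conjHom_mul g hg k
      rw [pow_succ (g : Matrix (Fin n) (Fin n) F), Matrix.mul_assoc, hk, ← Matrix.mul_assoc, ih,
        pow_succ ψ, AlgEquiv.mul_apply, Matrix.mul_assoc]
  let v : Fin n → F := fun _ => 1
  have hv : v ≠ 0 := fun h => one_ne_zero (α := F) (congrFun h ⟨0, hn.pos⟩)
  let a : Fin n → K := fun i =>
    (evalEquiv hK v hv).symm (h.coeff i • ((g : Matrix (Fin n) (Fin n) F) ^ (i : ℕ)) *ᵥ v)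
  have hsum : ∀ k : K, ∑ i : Fin n, a i * (ψ ^ (i : ℕ)) k = 0 := by
    intro k
    apply (evalEquiv hK v hv).injective
    rw [map_zero, map_sum]
    have h1 : ∀ i : Fin n, evalEquiv hK v hv (a i * (ψ ^ (i : ℕ)) k) =
        ((h.coeff i • (g : Matrix (Fin n) (Fin n) F) ^ (i : ℕ)) * (k : Matrix (Fin n) (Fin n) F)) *ᵥ v := by
      intro i
      have ha : (a i : Matrix (Fin n) (Fin n) F) *ᵥ v =
          h.coeff i • ((g : Matrix (Fin n) (Fin n) F) ^ (i : ℕ)) *ᵥ v :=
        (evalEquiv hK v hv).apply_symm_apply _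
      rw [evalEquiv_apply, MulMemClass.coe_mul, hK.comm _ (a i).2 _ ((ψ ^ (i : ℕ)) k).2,
        ← Matrix.mulVec_mulVec, ha, Matrix.smul_mul, hpow, Matrix.smul_mulVec,
        ← Matrix.mulVec_mulVec, Matrix.mulVec_smul]
    simp only [h1]
    rw [← Matrix.sum_mulVec, ← Finset.sum_mul,
      Fin.sum_univ_eq_sum_range fun i => h.coeff i • (g : Matrix (Fin n) (Fin n) F) ^ i,
      ← aeval_eq_sum_range' hdeg, hh, Matrix.zero_mul, Matrix.zero_mulVec]
  have hinj : Function.Injective (fun i : Fin n => ((ψ ^ (i : ℕ) : K ≃ₐ[F] K) : K →* K)) := by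
    intro i j hij
    have h1 : ψ ^ (i : ℕ) = ψ ^ (j : ℕ) := AlgEquiv.ext fun k => DFunLike.congr_fun hij k
    exact Fin.ext (pow_injOn_Iio_orderOf (by simp [hord]) (by simp [hord]) h1)
  have hli := (linearIndependent_monoidHom K K).comp _ hinj
  have ha0 : ∀ i, a i = 0 := by
    refine Fintype.linearIndependent_iff.mp hli a (funext fun k => ?_)
    simpa [smul_eq_mul] using hsum k
  apply h0
  ext i
  rw [coeff_zero]
  by_cases hi : i < n
  · have h1 := ha0 ⟨i, hi⟩
    simp only [a, LinearEquiv.map_eq_zero_iff, smul_eq_zero] at h1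
    refine h1.resolve_right fun h2 => hv ?_
    have h3 : (((g⁻¹) ^ i : GL (Fin n) F) : Matrix (Fin n) (Fin n) F) *ᵥ
        (((g : Matrix (Fin n) (Fin n) F) ^ i) *ᵥ v) = 0 := by rw [h2, Matrix.mulVec_zero]
    rwa [Matrix.mulVec_mulVec, ← Units.val_pow_eq_pow_val, ← Units.val_mul, inv_pow, inv_mul_cancel,
      Units.val_one, Matrix.one_mulVec] at h3
  · exact coeff_eq_zero_of_natDegree_lt (by omega)

/-- An element of the normaliser with two independent eigenvectors for one eigenvalue is scalar. -/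
theorem scalar_of_two_eigen (hK : Cfsg.Geo.IsFieldSubalgebra n K) (hn : n.Prime)
    (g : GL (Fin n) F) (hg : g ∈ Cfsg.Geo.subalgebraNormalizer K) {μ : F} {v w : Fin n → F}
    (hv : v ≠ 0) (hvg : (g : Matrix (Fin n) (Fin n) F) *ᵥ v = μ • v)
    (hwg : (g : Matrix (Fin n) (Fin n) F) *ᵥ w = μ • w) (hindep : ∀ c : F, w ≠ c • v) :
    (g : Matrix (Fin n) (Fin n) F) = μ • 1 := by
  letI : Field K := (isField hK hn.pos).toField
  haveI : Finite K := Module.finite_of_finite F
  haveI : Fact n.Prime := ⟨hn⟩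
  set ψ : K ≃ₐ[F] K := AlgEquiv.ofBijective (conjHom g hg)
    ⟨(conjHom g hg).toRingHom.injective,
      Finite.injective_iff_surjective.mp (conjHom g hg).toRingHom.injective⟩ with hψdef
  have hμ : μ ≠ 0 := by
    rintro rfl
    apply hv
    have h1 : ((g⁻¹ : GL (Fin n) F) : Matrix (Fin n) (Fin n) F) *ᵥ
        ((g : Matrix (Fin n) (Fin n) F) *ᵥ v) = 0 := by rw [hvg, zero_smul, Matrix.mulVec_zero]
    rwa [Matrix.mulVec_mulVec, ← Units.val_mul, inv_mul_cancel, Units.val_one, Matrix.one_mulVec]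
      at h1
  obtain ⟨k, rfl⟩ := (evalEquiv hK v hv).surjective w
  have hψk : ψ k = k := by
    apply (evalEquiv hK v hv).injective
    rw [evalEquiv_apply] at hwg
    rw [Matrix.mulVec_mulVec, conjHom_mul g hg, ← Matrix.mulVec_mulVec, hvg, Matrix.mulVec_smul]
      at hwg
    rw [evalEquiv_apply, evalEquiv_apply]
    exact smul_right_injective _ hμ hwg
  by_cases hψ : ψ = 1
  · have hgK : (g : Matrix (Fin n) (Fin n) F) ∈ K := mem_of_forall_commute hK hn.pos fun x hx => by
      have h1 := conjHom_mul g hg ⟨x, hx⟩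
      have h2 : conjHom g hg ⟨x, hx⟩ = (ψ ⟨x, hx⟩ : K) := rfl
      rw [h2, hψ] at h1
      exact h1
    refine sub_eq_zero.mp (eq_zero_of_mulVec_eq_zero hK
      (K.sub_mem hgK (K.smul_mem K.one_mem μ)) hv ?_)
    rw [Matrix.sub_mulVec, hvg, Matrix.smul_mulVec, Matrix.one_mulVec, sub_self]
  exfalso
  have hord : orderOf ψ = n := by
    have h1 : orderOf ψ ∣ Nat.card (K ≃ₐ[F] K) := orderOf_dvd_natCard ψ
    rw [IsGalois.card_aut_eq_finrank, hK.finrank_eq] at h1
    exact ((Nat.dvd_prime hn).mp h1).resolve_left (fun h => hψ (orderOf_eq_one_iff.mp h))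
  have hfix : ∀ φ ∈ Subgroup.zpowers ψ, φ k = k := by
    intro φ hφ
    have : Subgroup.zpowers ψ ≤ MulAction.stabilizer (K ≃ₐ[F] K) k := by
      rw [Subgroup.zpowers_le]
      exact hψk
    exact this hφ
  have htop : ∀ φ : K ≃ₐ[F] K, φ ∈ Subgroup.zpowers ψ := by
    have h1 : Nat.card (Subgroup.zpowers ψ) = Nat.card (K ≃ₐ[F] K) := by
      rw [Nat.card_zpowers, hord, IsGalois.card_aut_eq_finrank, hK.finrank_eq]
    intro φ
    rw [(Subgroup.card_eq_iff_eq_top _).mp h1]
    trivial
  obtain ⟨c, hc⟩ : k ∈ (⊥ : IntermediateField F K) := by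
    rw [← IsGalois.fixedField_top]
    · exact fun φ => hfix φ.1 (htop φ.1)
  refine hindep c ?_
  rw [evalEquiv_apply, ← hc]
  simp [Algebra.algebraMap_eq_smul_one, Matrix.smul_mulVec]

/-- The normaliser contains a matrix of determinant `1` with minimal polynomial `X ^ n - 1`
(for odd prime `n`). -/
theorem exists_semilinear (hK : Cfsg.Geo.IsFieldSubalgebra n K) (hn : n.Prime) (hodd : n ≠ 2) :
    ∃ s : Matrix.SpecialLinearGroup (Fin n) F,
      Matrix.SpecialLinearGroup.toGL s ∈ Cfsg.Geo.subalgebraNormalizer K ∧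
        minpoly F (s : Matrix (Fin n) (Fin n) F) = X ^ n - 1 := by
  letI : Field K := (isField hK hn.pos).toField
  haveI : Finite K := Module.finite_of_finite F
  haveI : Fact n.Prime := ⟨hn⟩
  obtain ⟨ψ, hψ⟩ : ∃ ψ : K ≃ₐ[F] K, ψ ≠ 1 := by
    have : 1 < Nat.card (K ≃ₐ[F] K) := by
      rw [IsGalois.card_aut_eq_finrank, hK.finrank_eq]; exact hn.one_lt
    haveI := Finite.one_lt_card_iff_nontrivial.mp this
    exact exists_ne 1
  have hψn : ψ ^ n = 1 := by
    have := pow_card_eq_one' (G := K ≃ₐ[F] K) (x := ψ)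
    rwa [IsGalois.card_aut_eq_finrank, hK.finrank_eq] at this
  let v : Fin n → F := fun _ => 1
  have hv : v ≠ 0 := fun h => one_ne_zero (α := F) (congrFun h ⟨0, hn.pos⟩)
  let e := evalEquiv hK v hv
  let L : Module.End F (Fin n → F) := e.conj ψ.toLinearMap
  have hLn : L ^ n = 1 := by
    have h1 : ∀ i : ℕ, L ^ i = e.conj (ψ ^ i).toLinearMap := by
      intro i
      induction i with
      | zero => exact LinearMap.ext fun x => by simp [LinearEquiv.conj_apply]
      | succ i ih =>
        rw [pow_succ, ih]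
        exact LinearMap.ext fun x => by
          simp [L, LinearEquiv.conj_apply, pow_succ, AlgEquiv.mul_apply, Module.End.mul_apply]
    rw [h1, hψn]
    exact LinearMap.ext fun x => by simp [LinearEquiv.conj_apply]
  let S : Matrix (Fin n) (Fin n) F := LinearMap.toMatrix' L
  have hS : ∀ k : K, S * (k : Matrix (Fin n) (Fin n) F) = (ψ k : K) * S := by
    intro k
    apply Matrix.toLin'.injective
    refine LinearMap.ext fun w => ?_
    obtain ⟨j, rfl⟩ := e.surjective w
    have hej : ∀ x : K, L (e x) = e (ψ x) := fun x => by simp [L, LinearEquiv.conj_apply]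
    have h1 : ∀ x y : K, e (x * y) = (x : Matrix (Fin n) (Fin n) F) *ᵥ e y := fun x y => by
      simp [e, evalEquiv_apply, Matrix.mulVec_mulVec]
    simp only [Matrix.toLin'_mul, LinearMap.comp_apply, S, Matrix.toLin'_toMatrix',
      Matrix.toLin'_apply]
    rw [← h1, hej, hej, ← h1, map_mul]
  have hSn : S ^ n = 1 := by
    show (LinearMap.toMatrixAlgEquiv' L) ^ n = 1
    rw [← map_pow, hLn, map_one]
  have hunit : IsUnit S := IsUnit.of_pow_eq_one hSn hn.ne_zero
  have hmemN : hunit.unit ∈ Cfsg.Geo.subalgebraNormalizer K := by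
    have hc : ∀ k : K, S * (k : Matrix (Fin n) (Fin n) F) * ((hunit.unit⁻¹ : GL (Fin n) F) : Matrix (Fin n) (Fin n) F)
        = (ψ k : K) := by
      intro k
      rw [hS, Matrix.mul_assoc]
      have : S * ((hunit.unit⁻¹ : GL (Fin n) F) : Matrix (Fin n) (Fin n) F) = 1 := hunit.mul_val_inv
      rw [this, Matrix.mul_one]
    intro k
    refine ⟨fun hk => ?_, fun hk => ?_⟩
    · show S * k * _ ∈ K
      rw [hc ⟨k, hk⟩]
      exact (ψ ⟨k, hk⟩).2
    · obtain ⟨j, hj⟩ := ψ.surjective ⟨_, hk⟩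
      have h2 := hc j
      rw [hj] at h2
      have h3 : (j : Matrix (Fin n) (Fin n) F) = k := by
        have hu : IsUnit ((hunit.unit⁻¹ : GL (Fin n) F) : Matrix (Fin n) (Fin n) F) := Units.isUnit _
        exact hunit.mul_left_cancel (hu.mul_right_cancel h2)
      exact h3 ▸ j.2
  have hmin : minpoly F S = X ^ n - 1 := by
    refine (eq_of_monic_of_dvd_of_natDegree_le (minpoly.monic (Algebra.IsIntegral.isIntegral S))
      (monic_X_pow_sub (by simpa using hn.pos)) (minpoly.dvd F S (by simp [hSn])) ?_).symm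
    rw [show (1 : F[X]) = C 1 by simp, natDegree_X_pow_sub_C]
    by_contra hlt
    obtain ⟨c, hc⟩ := scalar_of_normalizer hK hn hunit.unit hmemN
      (minpoly.ne_zero (Algebra.IsIntegral.isIntegral S)) (not_le.mp hlt) (minpoly.aeval F S)
    apply hψ
    have hc' : S = c • 1 := hc
    refine AlgEquiv.ext fun k => Subtype.ext (hunit.mul_right_cancel ?_)
    rw [← hS, AlgEquiv.one_apply, hc']
    simp [Matrix.smul_mul, Matrix.mul_smul]
  have hdet : S.det = 1 := by
    obtain ⟨P, hP, hSP⟩ := exists_mul_shiftMat hn.pos hmin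
    have h1 := congrArg Matrix.det hSP
    rw [Matrix.det_mul, Matrix.det_mul, mul_comm P.det, shiftMat, Matrix.det_transpose,
      Matrix.det_permutation] at h1
    rw [mul_right_cancel₀ hP h1]
    obtain ⟨m, rfl⟩ : ∃ m, n = m + 1 := ⟨n - 1, by have := hn.pos; omega⟩
    have hm : Even m := by
      have := hn.odd_of_ne_two hodd
      rw [Nat.odd_iff] at this
      rw [Nat.even_iff]
      omega
    simp [sign_finRotate, hm.neg_one_pow]
  refine ⟨⟨S, hdet⟩, ?_, hmin⟩
  have : Matrix.SpecialLinearGroup.toGL (⟨S, hdet⟩ : Matrix.SpecialLinearGroup (Fin n) F) = hunit.unit :=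
    Units.ext rfl
  rwa [this]

/-- Every matrix with minimal polynomial `X ^ n - 1` is conjugate under `SL_n` into the normaliser. -/
theorem exists_conj_mem (hK : Cfsg.Geo.IsFieldSubalgebra n K) (hn : n.Prime) (hodd : n ≠ 2)
    (hnF : (n : F) ≠ 0) (x : Matrix.SpecialLinearGroup (Fin n) F)
    (hx : minpoly F (x : Matrix (Fin n) (Fin n) F) = X ^ n - 1) :
    ∃ P : Matrix.SpecialLinearGroup (Fin n) F,
      P⁻¹ * x * P ∈ (Cfsg.Geo.subalgebraNormalizer K).comap
        (Matrix.SpecialLinearGroup.toGL : Matrix.SpecialLinearGroup (Fin n) F →* GL (Fin n) F) := by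
  obtain ⟨s, hsN, hs⟩ := exists_semilinear hK hn hodd
  obtain ⟨M, hM⟩ := exists_sl_conj hnF hx hs
  refine ⟨M, ?_⟩
  have : M⁻¹ * x * M = s := by
    rw [mul_assoc, inv_mul_eq_iff_eq_mul]
    exact Subtype.ext (by simpa using hM)
  rw [this]
  exact hsN

/-- A non-scalar matrix with two independent eigenvectors for one eigenvalue is conjugate to no
element of the normaliser. -/
theorem not_conj_mem (hK : Cfsg.Geo.IsFieldSubalgebra n K) (hn : n.Prime)
    (x : Matrix.SpecialLinearGroup (Fin n) F) {μ : F} {v w : Fin n → F} (hv : v ≠ 0)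
    (hvg : (x : Matrix (Fin n) (Fin n) F) *ᵥ v = μ • v)
    (hwg : (x : Matrix (Fin n) (Fin n) F) *ᵥ w = μ • w) (hindep : ∀ c : F, w ≠ c • v)
    (hns : ∀ z : F, (x : Matrix (Fin n) (Fin n) F) ≠ z • (1 : Matrix (Fin n) (Fin n) F))
    (P : Matrix.SpecialLinearGroup (Fin n) F) :
    P⁻¹ * x * P ∉ (Cfsg.Geo.subalgebraNormalizer K).comap
        (Matrix.SpecialLinearGroup.toGL : Matrix.SpecialLinearGroup (Fin n) F →* GL (Fin n) F) := by
  intro h
  set P' : Matrix (Fin n) (Fin n) F := ((P⁻¹ : Matrix.SpecialLinearGroup (Fin n) F) : Matrix (Fin n) (Fin n) F) with hP'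
  have hPP : (P : Matrix (Fin n) (Fin n) F) * P' = 1 := by
    rw [hP', ← Matrix.SpecialLinearGroup.coe_mul, mul_inv_cancel, Matrix.SpecialLinearGroup.coe_one]
  have hPP' : P' * (P : Matrix (Fin n) (Fin n) F) = 1 := mul_eq_one_comm.mp hPP
  have hval : ((Matrix.SpecialLinearGroup.toGL (P⁻¹ * x * P) : GL (Fin n) F) :
      Matrix (Fin n) (Fin n) F) =
        P' * (x : Matrix (Fin n) (Fin n) F) * (P : Matrix (Fin n) (Fin n) F) := by
    show ((P⁻¹ * x * P : Matrix.SpecialLinearGroup (Fin n) F) : Matrix (Fin n) (Fin n) F) = _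
    rw [Matrix.SpecialLinearGroup.coe_mul, Matrix.SpecialLinearGroup.coe_mul]
  have hev : ∀ u, (x : Matrix (Fin n) (Fin n) F) *ᵥ u = μ • u →
      (P' * (x : Matrix (Fin n) (Fin n) F) * (P : Matrix (Fin n) (Fin n) F)) *ᵥ (P' *ᵥ u) = μ • (P' *ᵥ u) := by
    intro u hu
    rw [Matrix.mulVec_mulVec, Matrix.mul_assoc _ (P : Matrix (Fin n) (Fin n) F), hPP, Matrix.mul_one,
      ← Matrix.mulVec_mulVec, hu, Matrix.mulVec_smul]
  have hinj : ∀ u, (P : Matrix (Fin n) (Fin n) F) *ᵥ (P' *ᵥ u) = u := fun u => by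
    rw [Matrix.mulVec_mulVec, hPP, Matrix.one_mulVec]
  have h1 := scalar_of_two_eigen hK hn _ h (v := P' *ᵥ v) (w := P' *ᵥ w)
    (fun h0 => hv (by rw [← hinj v, h0, Matrix.mulVec_zero])) (by rw [hval]; exact hev v hvg)
    (by rw [hval]; exact hev w hwg)
    (fun c hc => hindep c (by rw [← hinj w, hc, Matrix.mulVec_smul, hinj]))
  rw [hval] at h1
  apply hns μ
  calc (x : Matrix (Fin n) (Fin n) F)
      = (P : Matrix (Fin n) (Fin n) F) * (P' * (x : Matrix (Fin n) (Fin n) F) * (P : Matrix (Fin n) (Fin n) F)) * P' := by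
        rw [← Matrix.mul_assoc, ← Matrix.mul_assoc, hPP, Matrix.one_mul, Matrix.mul_assoc, hPP,
          Matrix.mul_one]
    _ = μ • 1 := by rw [h1]; simp [hPP]

end Normalizer

end Cfsg.Agent.Lib.SingerNorm
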