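import Mathlib
import Cfsg.Agent.Lib.SingerNorm.Basic
import Cfsg.Agent.Lib.Elusive.Linear

/-!
Elements of prime order `n` in dimension `n`: minimal polynomials; operators with two eigenvalues.
Owner: helper86.
-/

namespace Cfsg.Agent.Lib.SingerNorm

open Matrix Polynomial Module Cfsg.Agent.Lib.Elusive

variable {F : Type*} [Field F]

section TwoEigen

variable {V : Type*} [AddCommGroup V] [Module F V]

/-- An operator killed by `(X - α) (X - β)` splits the space into its two eigenspaces. -/
theorem isCompl_eigenspace (f : Module.End F V) {α β : F} (hne : α ≠ β)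
    (h : (f - α • 1) * (f - β • 1) = 0) :
    IsCompl (End.eigenspace f α) (End.eigenspace f β) := by
  have hd : α - β ≠ 0 := sub_ne_zero.mpr hne
  have hff : ∀ v, f (f v) = (α + β) • f v - (α * β) • v := by
    intro v
    have := LinearMap.congr_fun h v
    simp only [Module.End.mul_apply, LinearMap.sub_apply, LinearMap.smul_apply,
      Module.End.one_apply, map_sub, map_smul, LinearMap.zero_apply] at this
    linear_combination (norm := module) this
  constructor
  · rw [Submodule.disjoint_def]
    intro v hva hvb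
    rw [End.mem_eigenspace_iff] at hva hvb
    have : (α - β) • v = 0 := by rw [sub_smul, ← hva, ← hvb, sub_self]
    exact (smul_eq_zero.mp this).resolve_left hd
  · rw [codisjoint_iff, eq_top_iff]
    intro v _
    refine Submodule.mem_sup.mpr ⟨(α - β)⁻¹ • (f v - β • v), ?_, (α - β)⁻¹ • (α • v - f v), ?_, ?_⟩
    · rw [End.mem_eigenspace_iff, map_smul, map_sub, map_smul, hff]
      module
    · rw [End.mem_eigenspace_iff, map_smul, map_sub, map_smul, hff]
      module
    · rw [← smul_add, show f v - β • v + (α • v - f v) = (α - β) • v by module, smul_smul,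
        inv_mul_cancel₀ hd, one_smul]

/-- The determinant of an operator with two eigenvalues. -/
theorem det_eq_of_two_eigen [FiniteDimensional F V] (f : Module.End F V) {α β : F} (hne : α ≠ β)
    (h : (f - α • 1) * (f - β • 1) = 0) :
    LinearMap.det f = α ^ finrank F (End.eigenspace f α) * β ^ finrank F (End.eigenspace f β) := by
  set A := End.eigenspace f α
  set B := End.eigenspace f β
  let e : (A × B) ≃ₗ[F] V := Submodule.prodEquivOfIsCompl A B (isCompl_eigenspace f hne h)
  have hf : f = (e : (A × B) →ₗ[F] V) ∘ₗ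
      ((α • (LinearMap.id : A →ₗ[F] A)).prodMap (β • (LinearMap.id : B →ₗ[F] B))) ∘ₗ
      (e.symm : V →ₗ[F] A × B) := by
    refine LinearMap.ext fun v => ?_
    obtain ⟨⟨a, b⟩, rfl⟩ := e.surjective v
    have ha := End.mem_eigenspace_iff.mp a.2
    have hb := End.mem_eigenspace_iff.mp b.2
    simp only [LinearMap.comp_apply, LinearEquiv.coe_coe, LinearEquiv.symm_apply_apply]
    simp [e, Submodule.coe_prodEquivOfIsCompl', ha, hb]
  conv_lhs => rw [hf]
  rw [LinearMap.det_conj, LinearMap.det_prodMap, LinearMap.det_smul, LinearMap.det_smul,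
    LinearMap.det_id, LinearMap.det_id, mul_one, mul_one]

end TwoEigen

variable [Fintype F] {n : ℕ}

/-- A non-identity element of prime order `n` in dimension `n` over a field whose order is a
primitive root modulo `n` has minimal polynomial `X ^ n - 1`. -/
theorem minpoly_eq_of_primitive [hn : Fact n.Prime] (h2 : n ≠ 2) (hnF : (n : F) ≠ 0)
    (hord : orderOf (Fintype.card F : ZMod n) = n - 1) {x : Matrix (Fin n) (Fin n) F}
    (hx : x ^ n = 1) (hx1 : x ≠ 1) : minpoly F x = X ^ n - 1 := by
  classical
  obtain ⟨p, hp⟩ := CharP.exists F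
  obtain ⟨f, hpp, hf⟩ := FiniteField.card F p
  haveI := Fact.mk hpp
  have hpn : p.Coprime n := (Nat.coprime_primes hpp hn.out).mpr (by
    rintro rfl; exact hnF (CharP.cast_eq_zero F p))
  have hirr : Irreducible (cyclotomic n F) := by
    refine irreducible_of_dvd_cyclotomic_of_natDegree hf hpn dvd_rfl ?_
    rw [natDegree_cyclotomic, Nat.totient_prime hn.out, ← orderOf_units, ZMod.coe_unitOfCoprime,
      ← hf, hord]
  set g := minpoly F x with hg
  have hint : IsIntegral F x := Algebra.IsIntegral.isIntegral x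
  have hprod : cyclotomic n F * (X - 1) = X ^ n - 1 := cyclotomic_prime_mul_X_sub_one F n
  have hdvd : g ∣ cyclotomic n F * (X - 1) := hprod ▸ minpoly.dvd F x (by simp [hx])
  have hnd : (X ^ n - 1 : F[X]).natDegree = n := by
    rw [show (1 : F[X]) = C 1 by simp, natDegree_X_pow_sub_C]
  have hΦg : cyclotomic n F ∣ g := by
    by_contra hnot
    have h1 : g ∣ X - 1 := (hirr.coprime_iff_not_dvd.mpr hnot).symm.dvd_of_dvd_mul_left hdvd
    obtain ⟨c, hc⟩ := h1
    have : aeval x (X - 1 : F[X]) = 0 := by rw [hc, map_mul, minpoly.aeval, zero_mul]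
    exact hx1 (sub_eq_zero.mp (by simpa using this))
  refine (eq_of_monic_of_dvd_of_natDegree_le (minpoly.monic hint)
    (monic_X_pow_sub (by simpa using hn.out.pos)) (minpoly.dvd F x (by simp [hx])) ?_).symm
  by_contra hlt
  rw [hnd, not_le] at hlt
  have hg' : cyclotomic n F = g := by
    refine eq_of_monic_of_dvd_of_natDegree_le (cyclotomic.monic n F) (minpoly.monic hint) hΦg ?_ |>.symm
    rw [natDegree_cyclotomic, Nat.totient_prime hn.out]
    omega
  set f' : Module.End F (Fin n → F) := Matrix.toLinAlgEquiv' x with hf'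
  have hfn : f' ^ n = (1 : F) ^ n • 1 := by rw [one_pow, one_smul, hf', ← map_pow, hx, map_one]
  obtain ⟨s, hs⟩ := (isUniform_split hnF one_ne_zero hfn).exists_type (Inv.top f')
  have he : End.eigenspace f' 1 = ⊥ := by
    rw [eq_bot_iff]
    intro v hv
    by_contra hv0
    have h1 := Module.End.aeval_apply_of_hasEigenvector (p := cyclotomic n F)
      (⟨hv, fun h => hv0 (by simp [h])⟩ : End.HasEigenvector f' (1 : F) v)
    rw [eval_one_cyclotomic_prime, hf', Polynomial.aeval_algHom_apply, hg', hg, minpoly.aeval,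
      map_zero, LinearMap.zero_apply] at h1
    exact hv0 (by simpa using (smul_eq_zero.mp h1.symm).resolve_left hnF)
  obtain ⟨-, -, h3⟩ := hs
  rw [finrank_top, Module.finrank_fin_fun, top_inf_eq, he, finrank_bot, zero_add, hord] at h3
  have h3n := hn.out.two_le
  have h4 : n - 1 ∣ n := ⟨s, h3.trans (mul_comm _ _)⟩
  have h5 : n - 1 ∣ 1 := by
    have := Nat.dvd_sub h4 (dvd_refl (n - 1))
    rwa [Nat.sub_sub_self (by omega : 1 ≤ n)] at this
  have := Nat.le_of_dvd one_pos h5
  omega

theorem exists_indep_of_finrank {V : Type*} [AddCommGroup V] [Module F V] [FiniteDimensional F V]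
    {W : Submodule F V} (h : 2 ≤ finrank F W) :
    ∃ v w, v ∈ W ∧ w ∈ W ∧ v ≠ 0 ∧ ∀ c : F, w ≠ c • v := by
  obtain ⟨v, hvW, hv⟩ := W.exists_mem_ne_zero_of_ne_bot (fun h0 => by subst h0; rw [finrank_bot] at h; omega)
  by_contra hcon
  push Not at hcon
  have : W ≤ F ∙ v := fun w hw => by
    obtain ⟨c, hc⟩ := hcon v w hvW hw hv
    exact Submodule.mem_span_singleton.mpr ⟨c, hc.symm⟩
  have := Submodule.finrank_mono this
  rw [finrank_span_singleton hv] at this
  omega

end Cfsg.Agent.Lib.SingerNorm
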